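import Groth.Agent.Lib.EtDesc24.SetsPush
import Groth.Agent.Lib.EtStalk.Sets.Pull
import Groth.Agent.Lib.ConnDescent24.Core
import Groth.Agent.Lib.ProperPush24.AtVal

/-!
# Values of sections of sheaves of sets at geometric points
-/

universe u

open CategoryTheory CategoryTheory.Limits AlgebraicGeometry Opposite

set_option backward.isDefEq.respectTransparency.types false

namespace Groth.Agent.SetsStage24

open Groth.Agent.EtStalk hiding agree isOpen_agree mem_agree_iff_germ agree_symm agree_trans agree_self eq_of_agree mem_agree_map mem_agree_unit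
open Groth.Agent.Gabber24 (prodFst prodSnd)
open Groth.Agent.ConnDescent24 (cmpScheme cmpMap cmpMap_snd)
open Groth.Agent.ProperPush24 (pullbackComp_proj bc_bc_hom_ext)
open Groth.Agent.EtDesc24 (agree isOpen_agree mem_agree_iff_germ eq_of_agree)

section Agree

variable {X : Scheme.{u}} (G : EtDesc.Sh X) {U : X.Etale}

lemma agree_self (s : G.obj.obj (op U)) (x : U.left) : x ∈ agree G s s :=
  ⟨U, 𝟙 U, ⟨x, rfl⟩, rfl⟩

lemma mem_agree_map {V : X.Etale} (g : V ⟶ U) (s t : G.obj.obj (op U)) (v : V.left) :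
    v ∈ agree G (G.obj.map g.op s) (G.obj.map g.op t) ↔ g.left v ∈ agree G s t := by
  obtain ⟨φ, hφ⟩ := exists_fib V v
  have key : fibPt φ ∈ agree G (G.obj.map g.op s) (G.obj.map g.op t) ↔
      g.left (fibPt φ) ∈ agree G s t := by
    rw [mem_agree_iff_germ, Sets.germ_map, Sets.germ_map, ← mem_agree_iff_germ]
    rfl
  exact hφ ▸ key

end Agree

section Same

variable {X : Scheme.{u}} (F : EtDesc.Sh X)

/-- The value at a geometric point of a section, through a chosen lift. -/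
noncomputable def val {Ω : Type u} [Field Ω] [IsSepClosed Ω] (ξ : Spec (CommRingCat.of Ω) ⟶ X)
    {V : X.Etale} (a : Spec (CommRingCat.of Ω) ⟶ V.left) (h : a ≫ V.hom = ξ) (s : F.obj.obj (op V)) :
    (Sets.stalk ξ).obj F :=
  Sets.germ ξ F (U := V) (Over.homMk a h) s

lemma val_map {Ω : Type u} [Field Ω] [IsSepClosed Ω] (ξ : Spec (CommRingCat.of Ω) ⟶ X)
    {V W : X.Etale} (g : W ⟶ V) (a : Spec (CommRingCat.of Ω) ⟶ W.left) (h : a ≫ W.hom = ξ)
    (a' : Spec (CommRingCat.of Ω) ⟶ V.left) (h' : a' ≫ V.hom = ξ) (e : a ≫ g.left = a')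
    (s : F.obj.obj (op V)) :
    val F ξ a h (F.obj.map g.op s) = val F ξ a' h' s := by
  refine (Sets.germ_map ξ F g _ s).trans (congrArg (fun z => Sets.germ ξ F (U := V) z s) ?_)
  exact Over.OverMorphism.ext e

lemma val_congr {Ω : Type u} [Field Ω] [IsSepClosed Ω] {ξ ξ' : Spec (CommRingCat.of Ω) ⟶ X} (e : ξ = ξ')
    {V V' : X.Etale} {a : Spec (CommRingCat.of Ω) ⟶ V.left} {b : Spec (CommRingCat.of Ω) ⟶ V'.left}
    {ha : a ≫ V.hom = ξ} {hb : b ≫ V'.hom = ξ} {s : F.obj.obj (op V)} {s' : F.obj.obj (op V')} :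
    val F ξ a ha s = val F ξ b hb s' ↔
      val F ξ' a (ha.trans e) s = val F ξ' b (hb.trans e) s' := by
  subst e
  rfl

variable {Y : Scheme.{u}} {q : Y ⟶ X} {V W : X.Etale} {a : Y ⟶ V.left} {b : Y ⟶ W.left}
  (ha : a ≫ V.hom = q) (hb : b ≫ W.hom = q) (s : F.obj.obj (op V)) (s' : F.obj.obj (op W))

/-- Where two sections, pulled to `Y` through `a` and `b`, agree. -/
noncomputable def same : Set Y :=
  (pullback.lift a b (ha.trans hb.symm) : Y ⟶ (Gabber24.prod V W).left) ⁻¹'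
    agree F (F.obj.map (prodFst V W).op s) (F.obj.map (prodSnd V W).op s')

lemma isOpen_same : IsOpen (same F ha hb s s') :=
  (isOpen_agree F _ _).preimage (Scheme.Hom.continuous _)

/-- Agreement is tested at any geometric point. -/
lemma mem_same_iff {Ω : Type u} [Field Ω] [IsSepClosed Ω] (ξ : Spec (CommRingCat.of Ω) ⟶ Y) :
    ξ default ∈ same F ha hb s s' ↔
      val F (ξ ≫ q) (ξ ≫ a) (by rw [Category.assoc, ha]) s =
        val F (ξ ≫ q) (ξ ≫ b) (by rw [Category.assoc, hb]) s' := by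
  let l : Y ⟶ (Gabber24.prod V W).left := pullback.lift a b (ha.trans hb.symm)
  have hl : l ≫ (Gabber24.prod V W).hom = q := by
    show l ≫ pullback.fst V.hom W.hom ≫ V.hom = q
    exact (Category.assoc _ _ _).symm.trans ((congrArg (· ≫ V.hom) (pullback.lift_fst _ _ _)).trans ha)
  let φ : fib (ξ ≫ q) (Gabber24.prod V W) := Over.homMk (ξ ≫ l) (by
    show (ξ ≫ l) ≫ (Gabber24.prod V W).hom = ξ ≫ q
    rw [Category.assoc, hl])
  have h1 : fibPt φ = l (ξ default) := Scheme.Hom.comp_apply ξ l default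
  show l (ξ default) ∈ agree F _ _ ↔ _
  rw [← h1, mem_agree_iff_germ]
  have e1 : Sets.germ (ξ ≫ q) F φ (F.obj.map (prodFst V W).op s) =
      val F (ξ ≫ q) (ξ ≫ a) (by rw [Category.assoc, ha]) s :=
    val_map F _ (prodFst V W) _ _ _ _
      ((Category.assoc _ _ _).trans (congrArg (ξ ≫ ·) (pullback.lift_fst _ _ _))) s
  have e2 : Sets.germ (ξ ≫ q) F φ (F.obj.map (prodSnd V W).op s') =
      val F (ξ ≫ q) (ξ ≫ b) (by rw [Category.assoc, hb]) s' :=
    val_map F _ (prodSnd V W) _ _ _ _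
      ((Category.assoc _ _ _).trans (congrArg (ξ ≫ ·) (pullback.lift_snd _ _ _))) s'
  rw [e1, e2]

lemma mem_same_geomPt (y : Y) :
    y ∈ same F ha hb s s' ↔
      val F (geomPt Y y ≫ q) (geomPt Y y ≫ a) (by rw [Category.assoc, ha]) s =
        val F (geomPt Y y ≫ q) (geomPt Y y ≫ b) (by rw [Category.assoc, hb]) s' := by
  rw [← mem_same_iff F ha hb s s' (geomPt Y y), geomPt_default]

lemma same_symm {y : Y} (h : y ∈ same F ha hb s s') : y ∈ same F hb ha s' s := by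
  rw [mem_same_geomPt] at h ⊢
  exact h.symm

lemma same_trans {U : X.Etale} {c : Y ⟶ U.left} (hc : c ≫ U.hom = q) {s'' : F.obj.obj (op U)} {y : Y}
    (h : y ∈ same F ha hb s s') (h' : y ∈ same F hb hc s' s'') : y ∈ same F ha hc s s'' := by
  rw [mem_same_geomPt] at h h' ⊢
  exact h.trans h'

lemma same_self (y : Y) : y ∈ same F ha ha s s := (mem_same_geomPt F ha ha s s y).2 rfl

lemma mem_same_comp {Y' : Scheme.{u}} (g : Y' ⟶ Y) {q' : Y' ⟶ X} {a' : Y' ⟶ V.left} {b' : Y' ⟶ W.left}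
    (ha' : a' ≫ V.hom = q') (hb' : b' ≫ W.hom = q') (ea : g ≫ a = a') (eb : g ≫ b = b') (y : Y') :
    y ∈ same F ha' hb' s s' ↔ g y ∈ same F ha hb s s' := by
  have e : g ≫ pullback.lift a b (ha.trans hb.symm) = pullback.lift a' b' (ha'.trans hb'.symm) := by
    apply pullback.hom_ext
    · rw [Category.assoc, pullback.lift_fst, pullback.lift_fst, ea]
    · rw [Category.assoc, pullback.lift_snd, pullback.lift_snd, eb]
  let A := agree F (F.obj.map (prodFst V W).op s) (F.obj.map (prodSnd V W).op s')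
  show (pullback.lift a' b' (ha'.trans hb'.symm) : Y' ⟶ (Gabber24.prod V W).left) y ∈ A ↔ _
  have e2 : (pullback.lift a' b' (ha'.trans hb'.symm) : Y' ⟶ (Gabber24.prod V W).left) y =
      (pullback.lift a b (ha.trans hb.symm) : Y ⟶ (Gabber24.prod V W).left) (g y) :=
    (congrArg (fun f => f.base y) e.symm).trans (Scheme.Hom.comp_apply g _ y)
  rw [e2]
  rfl

end Same

section Congr

variable {X : Scheme.{u}}

lemma val_congr' {Ω : Type u} [Field Ω] [IsSepClosed Ω] (F : EtDesc.Sh X)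
    {ξ ξ' : Spec (CommRingCat.of Ω) ⟶ X} (e : ξ = ξ')
    {V V' : X.Etale} {a a' : Spec (CommRingCat.of Ω) ⟶ V.left} {b b' : Spec (CommRingCat.of Ω) ⟶ V'.left}
    (ea : a = a') (eb : b = b')
    {ha : a ≫ V.hom = ξ} {hb : b ≫ V'.hom = ξ} {ha' : a' ≫ V.hom = ξ'} {hb' : b' ≫ V'.hom = ξ'}
    {s : F.obj.obj (op V)} {s' : F.obj.obj (op V')} :
    val F ξ a ha s = val F ξ b hb s' ↔ val F ξ' a' ha' s = val F ξ' b' hb' s' := by
  subst e; subst ea; subst eb
  rfl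

end Congr

section Good

variable {W T : Scheme.{u}} (e : W ⟶ T) (F : EtDesc.Sh T) {U : W.Etale}
  (σ : ((EtDesc.pullSh e).obj F).obj.obj (op U))

/-- The unit applied to a section. -/
noncomputable abbrev res {N : T.Etale} (s : F.obj.obj (op N)) :
    ((EtDesc.pullSh e).obj F).obj.obj (op ((EtCoh.bc e).obj N)) :=
  ((EtDesc.adjSh e).unit.app F).hom.app (op N) s

/-- The Sets.germ of a restricted section. -/
lemma val_res {Ω : Type u} [Field Ω] [IsSepClosed Ω] (ζ : Spec (CommRingCat.of Ω) ⟶ W) {N : T.Etale}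
    (n : Spec (CommRingCat.of Ω) ⟶ N.left) (hn : n ≫ N.hom = ζ ≫ e)
    (l : Spec (CommRingCat.of Ω) ⟶ ((EtCoh.bc e).obj N).left) (hl : l ≫ ((EtCoh.bc e).obj N).hom = ζ)
    (hln : l ≫ bcFst e N = n) (s : F.obj.obj (op N)) :
    val ((EtDesc.pullSh e).obj F) ζ l hl (res e F s) = Sets.stalkPull e ζ F (val F (ζ ≫ e) n hn s) := by
  refine Eq.trans ?_ (Sets.germ_stalkPull e ζ F (Over.homMk n hn : fib (ζ ≫ e) N) s).symm
  refine congrArg (fun x => Sets.germ ζ ((EtDesc.pullSh e).obj F) x (res e F s)) ?_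
  exact Over.OverMorphism.ext (pullback.hom_ext (hln.trans (pullback.lift_fst _ _ _).symm)
    (hl.trans (pullback.lift_snd _ _ _).symm))

/-- Where `s` restricts to `σ`. -/
noncomputable def good {N : T.Etale} (s : F.obj.obj (op N)) : Set (cmpScheme e U N) :=
  same ((EtDesc.pullSh e).obj F) (a := pullback.fst (U.hom ≫ e) N.hom) (b := cmpMap e U N)
    (q := pullback.fst (U.hom ≫ e) N.hom ≫ U.hom) rfl (cmpMap_snd e U N) σ (res e F s)

lemma isOpen_good {N : T.Etale} (s : F.obj.obj (op N)) : IsOpen (good e F σ s) := isOpen_same _ _ _ _ _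

/-- The geometric criterion for the good locus. -/
lemma mem_good_iff {N : T.Etale} (s : F.obj.obj (op N)) {Ω : Type u} [Field Ω] [IsSepClosed Ω]
    (l : Spec (CommRingCat.of Ω) ⟶ cmpScheme e U N) (ζ : Spec (CommRingCat.of Ω) ⟶ W)
    (a : Spec (CommRingCat.of Ω) ⟶ U.left) (n : Spec (CommRingCat.of Ω) ⟶ N.left)
    (ea : l ≫ pullback.fst (U.hom ≫ e) N.hom = a) (en : l ≫ pullback.snd (U.hom ≫ e) N.hom = n)
    (ha : a ≫ U.hom = ζ) (hn : n ≫ N.hom = ζ ≫ e) :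
    l default ∈ good e F σ s ↔
      val ((EtDesc.pullSh e).obj F) ζ a ha σ = Sets.stalkPull e ζ F (val F (ζ ≫ e) n hn s) := by
  rw [good, mem_same_iff]
  have hb : (l ≫ cmpMap e U N) ≫ ((EtCoh.bc e).obj N).hom = ζ := by
    rw [Category.assoc, cmpMap_snd, ← Category.assoc, ea, ha]
  rw [val_congr' ((EtDesc.pullSh e).obj F) (ξ' := ζ) (by rw [← Category.assoc, ea, ha]) ea rfl (ha' := ha) (hb' := hb)]
  rw [val_res e F ζ n hn (l ≫ cmpMap e U N) hb (by
    rw [Category.assoc, show cmpMap e U N ≫ bcFst e N = _ from pullback.lift_fst _ _ _, en])]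

end Good

section AtVal

variable {P Q T : Scheme.{u}}

/-- A section of `e⁻¹ F` has at a geometric point the value of a section of `F`. -/
def At (e : P ⟶ T) (F : EtDesc.Sh T) {U : P.Etale} (σ : ((EtDesc.pullSh e).obj F).obj.obj (op U))
    {Ω : Type u} [Field Ω] [IsSepClosed Ω] (ζ : Spec (CommRingCat.of Ω) ⟶ P)
    (a : Spec (CommRingCat.of Ω) ⟶ U.left) (ha : a ≫ U.hom = ζ) {N : T.Etale}
    (n : Spec (CommRingCat.of Ω) ⟶ N.left) (hn : n ≫ N.hom = ζ ≫ e) (s : F.obj.obj (op N)) : Prop :=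
  val ((EtDesc.pullSh e).obj F) ζ a ha σ = Sets.stalkPull e ζ F (val F (ζ ≫ e) n hn s)

variable (e : P ⟶ T) (F : EtDesc.Sh T) {U : P.Etale} (σ : ((EtDesc.pullSh e).obj F).obj.obj (op U))
  {Ω : Type u} [Field Ω] [IsSepClosed Ω] (ζ : Spec (CommRingCat.of Ω) ⟶ P)
  (a : Spec (CommRingCat.of Ω) ⟶ U.left) (ha : a ≫ U.hom = ζ)

lemma exists_at : ∃ (N : T.Etale) (n : Spec (CommRingCat.of Ω) ⟶ N.left) (hn : n ≫ N.hom = ζ ≫ e)
    (s : F.obj.obj (op N)), At e F σ ζ a ha n hn s := by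
  obtain ⟨p, hp⟩ := (ConcreteCategory.bijective_of_isIso (Sets.stalkPull e ζ F)).2
    (val ((EtDesc.pullSh e).obj F) ζ a ha σ)
  obtain ⟨N, y, s, hs⟩ := Sets.germ_surjective (ζ ≫ e) F p
  refine ⟨N, y.left, Over.w y, s, ?_⟩
  show _ = Sets.stalkPull e ζ F _
  rw [show val F (ζ ≫ e) y.left (Over.w y) s = p from hs, hp]

variable {e F σ ζ a ha}

lemma At.val_eq {N N' : T.Etale} {n : Spec (CommRingCat.of Ω) ⟶ N.left} {hn : n ≫ N.hom = ζ ≫ e}
    {s : F.obj.obj (op N)} {n' : Spec (CommRingCat.of Ω) ⟶ N'.left} {hn' : n' ≫ N'.hom = ζ ≫ e}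
    {s' : F.obj.obj (op N')} (h : At e F σ ζ a ha n hn s) (h' : At e F σ ζ a ha n' hn' s') :
    val F (ζ ≫ e) n hn s = val F (ζ ≫ e) n' hn' s' :=
  (ConcreteCategory.bijective_of_isIso (Sets.stalkPull e ζ F)).1 (h.symm.trans h')

lemma At.congr {N N' : T.Etale} {n : Spec (CommRingCat.of Ω) ⟶ N.left} {hn : n ≫ N.hom = ζ ≫ e}
    {s : F.obj.obj (op N)} {n' : Spec (CommRingCat.of Ω) ⟶ N'.left} {hn' : n' ≫ N'.hom = ζ ≫ e}
    {s' : F.obj.obj (op N')} (h : At e F σ ζ a ha n hn s)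
    (h' : val F (ζ ≫ e) n hn s = val F (ζ ≫ e) n' hn' s') : At e F σ ζ a ha n' hn' s' :=
  h.trans (congrArg _ h')

variable (e F)

/-- Restricted sections have the values of the sections. -/
lemma at_res {N : T.Etale} (s : F.obj.obj (op N)) (m : U ⟶ (EtCoh.bc e).obj N)
    (n : Spec (CommRingCat.of Ω) ⟶ N.left) (hn : n ≫ N.hom = ζ ≫ e) (hmn : a ≫ m.left ≫ bcFst e N = n) :
    At e F (((EtDesc.pullSh e).obj F).obj.map m.op (res e F s)) ζ a ha n hn s := by
  let l : Spec (CommRingCat.of Ω) ⟶ ((EtCoh.bc e).obj N).left := a ≫ m.left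
  have hl : l ≫ ((EtCoh.bc e).obj N).hom = ζ := by
    rw [Category.assoc, MorphismProperty.Over.w, ha]
  show _ = _
  rw [val_map ((EtDesc.pullSh e).obj F) ζ m a ha l hl rfl]
  exact val_res e F ζ n hn l hl (by rw [Category.assoc, hmn]) s

/-- Sections with the same values are equal. -/
lemma ext_val {G : EtDesc.Sh P} {σ τ : G.obj.obj (op U)}
    (h : ∀ (Ω : Type u) [Field Ω] [IsSepClosed Ω] (ζ : Spec (CommRingCat.of Ω) ⟶ P)
      (a : Spec (CommRingCat.of Ω) ⟶ U.left) (ha : a ≫ U.hom = ζ), val G ζ a ha σ = val G ζ a ha τ) :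
    σ = τ := by
  refine eq_of_agree G (U := U) fun u => ?_
  obtain ⟨φ, hφ⟩ := exists_fib U u
  rw [← hφ]
  exact (mem_agree_iff_germ G φ _ _).2 (h _ _ φ.left (Over.w φ))

variable (e₁ : P ⟶ Q) (e₂ : Q ⟶ T)

/-- A section of the composite inverse image from an iterated one. -/
noncomputable abbrev toComp {V : P.Etale} (τ : ((EtDesc.pullSh e₁).obj ((EtDesc.pullSh e₂).obj F)).obj.obj (op V)) :
    ((EtDesc.pullSh (e₁ ≫ e₂)).obj F).obj.obj (op V) :=
  ((EtDesc.pullCompSh e₁ e₂).inv.app F).hom.app (op V) τ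

lemma toComp_unit {V : T.Etale} (s : F.obj.obj (op V)) :
    ((EtDesc.pullSh (e₁ ≫ e₂)).obj F).obj.map
      ((MorphismProperty.Over.pullbackComp (P := EtCoh.etaleMP) (Q := ⊤) e₁ e₂).hom.app V).op
      (toComp F e₁ e₂ (((EtDesc.adjSh e₁).unit.app ((EtDesc.pullSh e₂).obj F)).hom.app (op ((EtCoh.bc e₂).obj V))
        (((EtDesc.adjSh e₂).unit.app F).hom.app (op V) s))) =
      ((EtDesc.adjSh (e₁ ≫ e₂)).unit.app F).hom.app (op V) s := by
  have h := Adjunction.homEquiv_leftAdjointUniq_hom_app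
    (((EtDesc.adjSh e₂).comp (EtDesc.adjSh e₁)).ofNatIsoRight (EtDesc.pushCompSh e₂ e₁))
    (EtDesc.adjSh (e₁ ≫ e₂)) F
  rw [← Adjunction.leftAdjointUniq_inv_app] at h
  rw [Adjunction.homEquiv_unit] at h
  have h' := congrArg (fun t : F ⟶ (EtDesc.pushSh (e₁ ≫ e₂)).obj ((EtDesc.pullSh (e₁ ≫ e₂)).obj F) =>
    t.hom.app (op V) s) h
  refine Eq.trans ?_ h'
  refine (ConcreteCategory.congr_hom (((EtDesc.pullCompSh e₁ e₂).inv.app F).hom.naturality _) _).symm.trans ?_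
  rfl

/-- Values of the composite of an iterated inverse image. -/
theorem at_toComp {V : P.Etale} (τ : ((EtDesc.pullSh e₁).obj ((EtDesc.pullSh e₂).obj F)).obj.obj (op V))
    (b : Spec (CommRingCat.of Ω) ⟶ V.left) (hb : b ≫ V.hom = ζ) {N : T.Etale}
    (n : Spec (CommRingCat.of Ω) ⟶ N.left) (hn : n ≫ N.hom = (ζ ≫ e₁) ≫ e₂) (s : F.obj.obj (op N))
    (h : val ((EtDesc.pullSh e₁).obj ((EtDesc.pullSh e₂).obj F)) ζ b hb τ =
      Sets.stalkPull e₁ ζ _ (Sets.stalkPull e₂ (ζ ≫ e₁) F (val F ((ζ ≫ e₁) ≫ e₂) n hn s))) :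
    At (e₁ ≫ e₂) F (toComp F e₁ e₂ τ) ζ b hb n (hn.trans (Category.assoc _ _ _)) s := by
  let φ : fib ((ζ ≫ e₁) ≫ e₂) N := Over.homMk n hn
  let ψ : fib (ζ ≫ e₁ ≫ e₂) N := Over.homMk n (hn.trans (Category.assoc _ _ _))
  let x : fib ζ ((EtCoh.bc e₁).obj ((EtCoh.bc e₂).obj N)) := liftFib e₁ ζ (liftFib e₂ (ζ ≫ e₁) φ)
  have h1 : Sets.germ ζ ((EtDesc.pullSh e₁).obj ((EtDesc.pullSh e₂).obj F)) (Over.homMk b hb : fib ζ V) τ =
      Sets.germ ζ _ x (((EtDesc.adjSh e₁).unit.app ((EtDesc.pullSh e₂).obj F)).hom.app (op ((EtCoh.bc e₂).obj N))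
        (((EtDesc.adjSh e₂).unit.app F).hom.app (op N) s)) :=
    (h.trans (congrArg _ (Sets.germ_stalkPull e₂ (ζ ≫ e₁) F φ s))).trans (Sets.germ_stalkPull e₁ ζ _ _ _)
  have h2 := congrArg ((Sets.stalk ζ).map ((EtDesc.pullCompSh e₁ e₂).inv.app F)) h1
  erw [Sets.germ_nat, Sets.germ_nat] at h2
  refine h2.trans (Eq.trans ?_ (Sets.germ_stalkPull (e₁ ≫ e₂) ζ F ψ s).symm)
  rw [← toComp_unit F e₁ e₂ s]
  refine Eq.trans ?_ (Sets.germ_map ζ ((EtDesc.pullSh (e₁ ≫ e₂)).obj F) _ _ _).symm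
  refine congrArg (fun z => Sets.germ ζ ((EtDesc.pullSh (e₁ ≫ e₂)).obj F) z _) (Over.OverMorphism.ext ?_)
  let c := ((MorphismProperty.Over.pullbackComp (P := EtCoh.etaleMP) (Q := ⊤) e₁ e₂).hom.app N)
  let L : Spec (CommRingCat.of Ω) ⟶ ((EtCoh.bc (e₁ ≫ e₂)).obj N).left := (liftFib (e₁ ≫ e₂) ζ ψ).left
  show x.left = L ≫ c.left
  have hL : L ≫ ((EtCoh.bc (e₁ ≫ e₂)).obj N).hom = ζ := Over.w (liftFib (e₁ ≫ e₂) ζ ψ)
  have hx : (x.left : Spec (CommRingCat.of Ω) ⟶ ((EtCoh.bc e₁).obj ((EtCoh.bc e₂).obj N)).left) ≫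
      ((EtCoh.bc e₁).obj ((EtCoh.bc e₂).obj N)).hom = ζ := Over.w x
  refine bc_bc_hom_ext e₁ e₂ ?_ ?_
  · refine Eq.trans ?_ ((Category.assoc L c.left _).trans (congrArg (L ≫ ·) (pullbackComp_proj e₁ e₂ N))).symm
    refine Eq.trans ?_ (pullback.lift_fst _ _ _).symm
    exact (Category.assoc _ _ _).symm.trans ((congrArg (· ≫ pullback.fst N.hom e₂) (pullback.lift_fst _ _ _)).trans
      (pullback.lift_fst _ _ _))
  · refine hx.trans (hL.symm.trans ?_)
    exact (congrArg (L ≫ ·) (MorphismProperty.Over.w c).symm).trans (Category.assoc L c.left _).symm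

/-- An iterated section from a composite one. -/
noncomputable abbrev fromComp {V : P.Etale} (σ : ((EtDesc.pullSh (e₁ ≫ e₂)).obj F).obj.obj (op V)) :
    ((EtDesc.pullSh e₁).obj ((EtDesc.pullSh e₂).obj F)).obj.obj (op V) :=
  ((EtDesc.pullCompSh e₁ e₂).hom.app F).hom.app (op V) σ

lemma toComp_fromComp {V : P.Etale} (σ : ((EtDesc.pullSh (e₁ ≫ e₂)).obj F).obj.obj (op V)) :
    toComp F e₁ e₂ (fromComp F e₁ e₂ σ) = σ :=
  congrArg (fun t : (EtDesc.pullSh (e₁ ≫ e₂)).obj F ⟶ _ => t.hom.app (op V) σ) ((EtDesc.pullCompSh e₁ e₂).hom_inv_id_app F)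

/-- Values of an iterated section from those of the composite. -/
theorem val_of_at_toComp {V : P.Etale} (τ : ((EtDesc.pullSh e₁).obj ((EtDesc.pullSh e₂).obj F)).obj.obj (op V))
    (b : Spec (CommRingCat.of Ω) ⟶ V.left) (hb : b ≫ V.hom = ζ) {N : T.Etale}
    (n : Spec (CommRingCat.of Ω) ⟶ N.left) (hn : n ≫ N.hom = (ζ ≫ e₁) ≫ e₂) (s : F.obj.obj (op N))
    (h : At (e₁ ≫ e₂) F (toComp F e₁ e₂ τ) ζ b hb n (hn.trans (Category.assoc _ _ _)) s) :
    val ((EtDesc.pullSh e₁).obj ((EtDesc.pullSh e₂).obj F)) ζ b hb τ =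
      Sets.stalkPull e₁ ζ _ (Sets.stalkPull e₂ (ζ ≫ e₁) F (val F ((ζ ≫ e₁) ≫ e₂) n hn s)) := by
  obtain ⟨p, hp⟩ := (ConcreteCategory.bijective_of_isIso (Sets.stalkPull e₁ ζ ((EtDesc.pullSh e₂).obj F))).2
    (val ((EtDesc.pullSh e₁).obj ((EtDesc.pullSh e₂).obj F)) ζ b hb τ)
  obtain ⟨p', hp'⟩ := (ConcreteCategory.bijective_of_isIso (Sets.stalkPull e₂ (ζ ≫ e₁) F)).2 p
  obtain ⟨N', y, s', hs'⟩ := Sets.germ_surjective ((ζ ≫ e₁) ≫ e₂) F p'
  have hval : val ((EtDesc.pullSh e₁).obj ((EtDesc.pullSh e₂).obj F)) ζ b hb τ =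
      Sets.stalkPull e₁ ζ _ (Sets.stalkPull e₂ (ζ ≫ e₁) F (val F ((ζ ≫ e₁) ≫ e₂) y.left (Over.w y) s')) := by
    rw [show val F ((ζ ≫ e₁) ≫ e₂) y.left (Over.w y) s' = p' from hs', hp', hp]
  have h' := At.val_eq (at_toComp F e₁ e₂ τ b hb _ _ s' hval) h
  rw [hval, (val_congr' F (Category.assoc ζ e₁ e₂) rfl rfl).2 h']

end AtVal

/-- Sections on a covering family with the same values at geometric points glue. -/
theorem exists_glue {X : Scheme.{u}} (F : EtDesc.Sh X) {U : X.Etale} {κ : Type*} (M : κ → X.Etale)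
    (g : ∀ k, M k ⟶ U) (s : ∀ k, F.obj.obj (op (M k))) (hcov : ∀ z : U.left, ∃ k y, (g k).left y = z)
    (h : ∀ (k l : κ) (K : Type u) [Field K] [IsSepClosed K] (ζ : Spec (CommRingCat.of K) ⟶ X)
      (a : Spec (CommRingCat.of K) ⟶ (M k).left) (b : Spec (CommRingCat.of K) ⟶ (M l).left)
      (_ : a ≫ (g k).left = b ≫ (g l).left) (ha : a ≫ (M k).hom = ζ) (hb : b ≫ (M l).hom = ζ),
      val F ζ a ha (s k) = val F ζ b hb (s l)) :
    ∃ t : F.obj.obj (op U), ∀ k, F.obj.map (g k).op t = s k := by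
  have hS : Sieve.ofArrows M g ∈ Scheme.smallEtaleTopology X U := (EtSite.mem_et_iff _ _).2 fun z => by
    obtain ⟨k, y, hy⟩ := hcov z
    exact ⟨M k, g k, y, Sieve.ofArrows_mk _ (f := g) k, hy⟩
  have hsh : Presieve.IsSheafFor (F.obj ⋙ forget _) (Presieve.ofArrows M g) :=
    (Presieve.isSheafFor_iff_generate _).2 (((isSheaf_iff_isSheaf_of_type _ _).1
      ((Presheaf.isSheaf_iff_isSheaf_forget _ F.obj (forget _)).1 F.property)) _ hS)
  obtain ⟨t, ht, -⟩ := (Presieve.isSheafFor_arrows_iff _ _).1 hsh s (by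
    intro k l Z gk gl e
    show F.obj.map gk.op (s k) = F.obj.map gl.op (s l)
    refine eq_of_agree F (U := Z) fun z => ?_
    obtain ⟨φ, hφ⟩ := exists_fib Z z
    rw [← hφ]
    refine (mem_agree_iff_germ F φ _ _).2 ?_
    let c : Spec (CommRingCat.of _) ⟶ Z.left := φ.left
    have hk : (c ≫ gk.left) ≫ (M k).hom = geomPt X (Z.hom z) := by
      rw [Category.assoc, MorphismProperty.Over.w]; exact Over.w φ
    have hl : (c ≫ gl.left) ≫ (M l).hom = geomPt X (Z.hom z) := by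
      rw [Category.assoc, MorphismProperty.Over.w]; exact Over.w φ
    have e' : gk.left ≫ (g k).left = gl.left ≫ (g l).left := congrArg (fun m : Z ⟶ U => m.left) e
    exact (val_map F _ gk c (Over.w φ) _ hk rfl (s k)).trans ((h k l _ _ _ _
      (by rw [Category.assoc, Category.assoc, e']) hk hl).trans
      (val_map F _ gl c (Over.w φ) _ hl rfl (s l)).symm))
  exact ⟨t, ht⟩

end Groth.Agent.SetsStage24
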