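import Groth.Agent.Lib.SetsStage24.Val
import Groth.Agent.Lib.ProperPush24.Section
import Groth.Agent.Lib.ShFlat24.Lift

/-!
# Sections of sheaves of sets over a strictly local algebra
-/

universe u

open CategoryTheory CategoryTheory.Limits AlgebraicGeometry Opposite

set_option backward.isDefEq.respectTransparency.types false

namespace Groth.Agent.SetsStage24

open Groth.Agent.EtStalk hiding agree isOpen_agree mem_agree_iff_germ agree_symm agree_trans agree_self eq_of_agree mem_agree_map mem_agree_unit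
open Groth.Agent.Gabber24 (prodFst prodSnd)
open Groth.Agent.ConnDescent24 (cmpScheme cmpMap cmpMap_snd)
open Groth.Agent.ProperPush24 (Stage HasLifts toStage toStage_hom toStage_fst toStage_map exists_dominate_finset exists_open_stage exists_open_disjoint cmp fibProd fibProdFst fibProdSnd quasiCompact_bcFst quasiSeparated_bcFst exists_lift_toStage exists_affine_stage range_subset_of_closedPoint flat_stage)
open Groth.Agent.EtDesc24 (agree isOpen_agree mem_agree_iff_germ eq_of_agree)

section Pieces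

variable {X Y : Scheme.{u}} (f : X ⟶ Y) {A : Type u} [CommRing A] [IsLocalRing A]
  {α : Spec (CommRingCat.of A) ⟶ Y}

variable (F : EtDesc.Sh X)

/-- A piece of a descent: a section on an etale scheme over the base change of a stage, taking the
values of `τ`. -/
structure Piece (τ : ((EtDesc.pullSh (pullback.fst f α)).obj F).obj.obj (op (EtCoh.top (pullback f α)))) where
  T : Stage α
  N : X.Etale
  h : N ⟶ (EtCoh.bc f).obj T.V
  compact : CompactSpace N.left
  sec : F.obj.obj (op N)
  spec : ∀ (K : Type u) [Field K] [IsSepClosed K] (l : Spec (CommRingCat.of K) ⟶ pullback f α)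
    (n : Spec (CommRingCat.of K) ⟶ N.left) (hn : n ≫ N.hom = l ≫ pullback.fst f α),
    n ≫ h.left = l ≫ toStage f T → At (pullback.fst f α) F τ l l (Category.comp_id l) n hn sec

set_option maxHeartbeats 1000000 in
/-- Every point lies on a piece. -/
theorem exists_piece (hL : HasLifts α) (T₀ : Stage α)
    (τ : ((EtDesc.pullSh (pullback.fst f α)).obj F).obj.obj (op (EtCoh.top (pullback f α))))
    (x : (pullback f α : Scheme.{u})) :
    ∃ P : Piece f F τ, toStage f P.T x ∈ Set.range P.h.left := by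
  let pA := pullback.fst f α
  let qA := pullback.snd f α
  let g₀ := geomPt (pullback f α) x
  obtain ⟨N, n, hn, s, hs⟩ := exists_at pA F τ g₀ g₀ (Category.comp_id g₀)
  let W := pullback (N.hom ≫ f) T₀.V.hom
  let p : W ⟶ T₀.V.left := pullback.snd (N.hom ≫ f) T₀.V.hom
  let gN : pullback p T₀.a ⟶ N.left := pullback.fst p T₀.a ≫ pullback.fst (N.hom ≫ f) T₀.V.hom
  let gX : pullback p T₀.a ⟶ pullback f α := pullback.lift (gN ≫ N.hom) (pullback.snd p T₀.a) (by
    simp only [gN, Category.assoc]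
    rw [pullback.condition, pullback.condition_assoc, T₀.w])
  have hgX : gX ≫ pA = gN ≫ N.hom := pullback.lift_fst _ _ _
  let c : pullback p T₀.a ⟶ cmpScheme pA (EtCoh.top (pullback f α)) N :=
    pullback.lift gX gN (by
      show gX ≫ 𝟙 _ ≫ pA = gN ≫ N.hom
      rw [Category.id_comp, hgX])
  let M : Set (pullback p T₀.a : Scheme.{u}) := c ⁻¹' good pA F τ s
  have hM : IsOpen M := (isOpen_good pA F τ s).preimage c.continuous
  let w₀ := pullback.lift n ((g₀ ≫ qA) ≫ T₀.a) (by
    rw [← Category.assoc, hn]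
    simp only [pA, qA, Category.assoc]
    rw [pullback.condition, T₀.w])
  let l₀ : Spec (CommRingCat.of _) ⟶ pullback p T₀.a := pullback.lift w₀ (g₀ ≫ qA) (pullback.lift_snd _ _ _)
  have hlN : l₀ ≫ gN = n := by
    simp only [l₀, w₀, gN, pullback.lift_fst_assoc, pullback.lift_fst]
  have hlX : l₀ ≫ gX = g₀ := by
    refine pullback.hom_ext ?_ ?_
    · rw [Category.assoc, pullback.lift_fst, ← Category.assoc, hlN, hn]
    · rw [Category.assoc, pullback.lift_snd, pullback.lift_snd]
  have hz : l₀ default ∈ M := by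
    show c (l₀ default) ∈ good pA F τ s
    rw [← Scheme.Hom.comp_apply]
    refine (mem_good_iff pA F τ s (l₀ ≫ c) g₀ g₀ n ?_ ?_ (Category.comp_id g₀) hn).2 hs
    · exact (Category.assoc _ _ _).trans ((congrArg (l₀ ≫ ·) (pullback.lift_fst _ _ _)).trans hlX)
    · rw [Category.assoc, pullback.lift_snd, hlN]
  obtain ⟨T, m, hm, O, hO, hzO, hOM⟩ := exists_open_stage hL T₀ p hM _ hz
  let qN : O.toScheme ⟶ N.left := O.ι ≫ pullback.fst p m.left ≫ pullback.fst (N.hom ≫ f) T₀.V.hom
  haveI : AlgebraicGeometry.Etale N.hom := N.prop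
  haveI : AlgebraicGeometry.Etale T₀.V.hom := T₀.V.prop
  haveI : AlgebraicGeometry.Etale T.V.hom := T.V.prop
  haveI : AlgebraicGeometry.Etale m.left := by
    haveI : AlgebraicGeometry.Etale (m.left ≫ T₀.V.hom) := by
      rw [MorphismProperty.Over.w]; exact T.V.prop
    exact AlgebraicGeometry.Etale.of_comp m.left T₀.V.hom
  have hqN : AlgebraicGeometry.Etale qN := by simp only [qN]; infer_instance
  let N' : X.Etale := MorphismProperty.Over.mk ⊤ (qN ≫ N.hom) (by infer_instance)
  let qB : O.toScheme ⟶ ((EtCoh.bc f).obj T.V).left :=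
    pullback.lift (O.ι ≫ pullback.snd p m.left) (qN ≫ N.hom) (by
      simp only [qN, Category.assoc]
      rw [pullback.condition, ← MorphismProperty.Over.w m, ← pullback.condition_assoc])
  let h : N' ⟶ (EtCoh.bc f).obj T.V := MorphismProperty.Over.homMk qB (pullback.lift_snd _ _ _)
  let r : N' ⟶ N := MorphismProperty.Over.homMk qN rfl
  haveI : IsAffine O.toScheme := hO
  refine ⟨⟨T, N', h, inferInstanceAs (CompactSpace O.toScheme), F.obj.map r.op s,
    fun K _ _ l n' hn' he => ?_⟩, ?_⟩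
  · let a' : Spec (CommRingCat.of K) ⟶ O.toScheme := n'
    have he' : a' ≫ qB = l ≫ toStage f T := he
    have hN : (a' ≫ qN) ≫ N.hom = l ≫ pA := (Category.assoc _ _ _).trans hn'
    have h2 : (a' ≫ O.ι ≫ pullback.snd p m.left) = (l ≫ qA) ≫ T.a := by
      exact (congrArg (a' ≫ ·) (pullback.lift_fst _ _ _)).symm.trans ((Category.assoc _ _ _).symm.trans
        ((congrArg (· ≫ bcFst f T.V) he').trans ((Category.assoc _ _ _).trans
          ((congrArg (l ≫ ·) (toStage_fst f T)).trans (Category.assoc _ _ _).symm))))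
    let y : Spec (CommRingCat.of K) ⟶ pullback p T₀.a :=
      pullback.lift (a' ≫ O.ι ≫ pullback.fst p m.left) (l ≫ qA) (by
        simp only [Category.assoc]
        rw [pullback.condition, ← hm]
        have := congrArg (· ≫ m.left) h2
        simpa only [Category.assoc] using this)
    have hy : y ≫ ProperPush24.cmp p m hm = a' ≫ O.ι := by
      refine pullback.hom_ext ?_ ?_
      · simp only [y, ProperPush24.cmp, Category.assoc, pullback.lift_fst]
      · rw [Category.assoc, ProperPush24.cmp, pullback.lift_snd, pullback.lift_snd_assoc, Category.assoc a', h2]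
    have hyM : y default ∈ M := hOM _ (by
      rw [← Scheme.Hom.comp_apply, hy, Scheme.Hom.comp_apply]
      exact (a' default).2)
    have hyN : y ≫ gN = a' ≫ qN := by
      simp only [y, gN, qN, pullback.lift_fst_assoc, Category.assoc]
    have hyX : y ≫ gX = l := by
      refine pullback.hom_ext ?_ ?_
      · rw [Category.assoc, pullback.lift_fst, ← Category.assoc, hyN, hN]
      · rw [Category.assoc, pullback.lift_snd, pullback.lift_snd]
    have hat : At pA F τ l l (Category.comp_id l) (a' ≫ qN) hN s := by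
      refine (mem_good_iff pA F τ s (y ≫ c) l l (a' ≫ qN) ?_ ?_ (Category.comp_id l) hN).1 ?_
      · exact (Category.assoc _ _ _).trans ((congrArg (y ≫ ·) (pullback.lift_fst _ _ _)).trans hyX)
      · rw [Category.assoc, pullback.lift_snd, hyN]
      · rw [Scheme.Hom.comp_apply]; exact hyM
    exact hat.congr (val_map F (l ≫ pA) r n' hn' (a' ≫ qN) hN rfl s).symm
  · let y₀ : Spec (CommRingCat.of _) ⟶ pullback p m.left := l₀ ≫ ProperPush24.cmp p m hm
    let a₀ : Spec (CommRingCat.of _) ⟶ O.toScheme := IsOpenImmersion.lift O.ι y₀ (by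
      rw [Scheme.Opens.range_ι]
      rintro _ ⟨z, rfl⟩
      rw [Subsingleton.elim z default, Scheme.Hom.comp_apply]
      exact hzO)
    have ha₀ : a₀ ≫ O.ι = y₀ := IsOpenImmersion.lift_fac _ _ _
    have hN₀ : a₀ ≫ qN = n := by
      simp only [qN, reassoc_of% ha₀, y₀, ProperPush24.cmp, Category.assoc, pullback.lift_fst_assoc]
      exact hlN
    have he : a₀ ≫ qB = g₀ ≫ toStage f T := by
      refine pullback.hom_ext ?_ ?_
      · refine (Category.assoc _ _ _).trans ((congrArg (a₀ ≫ ·) (pullback.lift_fst _ _ _)).trans ?_)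
        refine Eq.trans ?_ ((Category.assoc _ _ _).trans (congrArg (g₀ ≫ ·) (toStage_fst f T))).symm
        rw [← Category.assoc, ha₀]
        simp only [y₀, ProperPush24.cmp, Category.assoc, pullback.lift_snd]
        rw [← Category.assoc l₀, pullback.lift_snd, Category.assoc]
      · refine (Category.assoc _ _ _).trans ((congrArg (a₀ ≫ ·) (pullback.lift_snd _ _ _)).trans ?_)
        rw [← Category.assoc, hN₀, hn]
        exact ((Category.assoc _ _ _).trans (congrArg (g₀ ≫ ·) (toStage_hom f T))).symm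
    refine ⟨a₀ default, ?_⟩
    show qB (a₀ default) = toStage f T x
    rw [← Scheme.Hom.comp_apply, he, Scheme.Hom.comp_apply, geomPt_default]

end Pieces

section Section

variable {X Y : Scheme.{u}} (f : X ⟶ Y) [QuasiCompact f] [QuasiSeparated f] {A : Type u} [CommRing A] [IsLocalRing A]
  {α : Spec (CommRingCat.of A) ⟶ Y}

variable [Flat α] (F : EtDesc.Sh X)

lemma exists_open_compat {κ : Type u} (T : Stage α)
    (τ : ((EtDesc.pullSh (pullback.fst f α)).obj F).obj.obj (op (EtCoh.top (pullback f α))))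
    (P : κ → Piece f F τ) (m : ∀ k, T.V ⟶ (P k).T.V) (hm : ∀ k, T.a ≫ (m k).left = (P k).T.a) (i j : κ) :
    ∃ O : T.V.left.Opens, T.pt ∈ O ∧ ∀ (K : Type u) [Field K] [IsSepClosed K]
      (c : Spec (CommRingCat.of K) ⟶ ((EtCoh.bc f).obj T.V).left)
      (a : Spec (CommRingCat.of K) ⟶ (P i).N.left) (b : Spec (CommRingCat.of K) ⟶ (P j).N.left)
      (ξ : Spec (CommRingCat.of K) ⟶ X) (ha : a ≫ (P i).N.hom = ξ) (hb : b ≫ (P j).N.hom = ξ)
      (_ : a ≫ (P i).h.left = c ≫ ((EtCoh.bc f).map (m i)).left)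
      (_ : b ≫ (P j).h.left = c ≫ ((EtCoh.bc f).map (m j)).left),
      bcFst f T.V (c default) ∈ O → val F ξ a ha (P i).sec = val F ξ b hb (P j).sec := by
  let Mi := fibProd (P i).h ((EtCoh.bc f).map (m i))
  let Mj := fibProd (P j).h ((EtCoh.bc f).map (m j))
  let si : Mi.left ⟶ ((EtCoh.bc f).obj T.V).left := (fibProdSnd (P i).h ((EtCoh.bc f).map (m i))).left
  let sj : Mj.left ⟶ ((EtCoh.bc f).obj T.V).left := (fibProdSnd (P j).h ((EtCoh.bc f).map (m j))).left
  let R := pullback si sj
  let p : R ⟶ T.V.left := pullback.fst si sj ≫ si ≫ bcFst f T.V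
  haveI : ∀ k, QuasiCompact (P k).h.left := fun k => by
    haveI := (P k).compact
    haveI : IsAffine (P k).T.V.left := (P k).T.affine
    haveI := quasiSeparated_bcFst f (P k).T.V
    haveI : QuasiSeparatedSpace ((EtCoh.bc f).obj (P k).T.V).left :=
      quasiSeparatedSpace_of_quasiSeparated (bcFst f (P k).T.V)
    infer_instance
  haveI := quasiCompact_bcFst f T.V
  haveI : QuasiCompact si := inferInstanceAs (QuasiCompact (pullback.snd _ _))
  haveI : QuasiCompact sj := inferInstanceAs (QuasiCompact (pullback.snd _ _))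
  haveI : QuasiCompact p := inferInstance
  let ai : R ⟶ (P i).N.left := pullback.fst si sj ≫ (fibProdFst (P i).h ((EtCoh.bc f).map (m i))).left
  let bj : R ⟶ (P j).N.left := pullback.snd si sj ≫ (fibProdFst (P j).h ((EtCoh.bc f).map (m j))).left
  let q : R ⟶ X := pullback.fst si sj ≫ si ≫ ((EtCoh.bc f).obj T.V).hom
  have hq₁ : ai ≫ (P i).N.hom = q := by
    simp only [ai, q, Category.assoc]
    refine congrArg (pullback.fst si sj ≫ ·) ?_
    rw [MorphismProperty.Over.w, ← MorphismProperty.Over.w (fibProdSnd (P i).h ((EtCoh.bc f).map (m i)))]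
  have hq₂ : bj ≫ (P j).N.hom = q := by
    simp only [bj, q, Category.assoc]
    rw [pullback.condition_assoc]
    refine congrArg (pullback.snd si sj ≫ ·) ?_
    rw [MorphismProperty.Over.w, ← MorphismProperty.Over.w (fibProdSnd (P j).h ((EtCoh.bc f).map (m j)))]
  let S : Set R := same F hq₁ hq₂ (P i).sec (P j).sec
  have hi : ai ≫ (P i).h.left = (pullback.fst si sj ≫ si) ≫ ((EtCoh.bc f).map (m i)).left :=
    (Category.assoc _ _ _).trans ((congrArg (pullback.fst si sj ≫ ·) pullback.condition).trans (Category.assoc _ _ _).symm)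
  have hj : bj ≫ (P j).h.left = (pullback.fst si sj ≫ si) ≫ ((EtCoh.bc f).map (m j)).left :=
    (Category.assoc _ _ _).trans ((congrArg (pullback.snd si sj ≫ ·) pullback.condition).trans
      ((Category.assoc _ _ _).symm.trans (congrArg (· ≫ ((EtCoh.bc f).map (m j)).left) pullback.condition.symm)))
  obtain ⟨O, hO, hOS⟩ := exists_open_disjoint T p (C := Sᶜ) (isOpen_same F hq₁ hq₂ _ _).isClosed_compl (by
    intro w hw
    apply hw
    let g := geomPt _ w
    let r := g ≫ pullback.fst p T.a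
    obtain ⟨l, hl₁, hlT'⟩ := exists_lift_toStage f T (r ≫ pullback.fst si sj ≫ si) (g ≫ pullback.snd p T.a) (by
      simp only [r, Category.assoc]
      exact congrArg (g ≫ ·) pullback.condition)
    have hlT : r ≫ pullback.fst si sj ≫ si = l ≫ toStage f T := hlT'.symm
    rw [show pullback.fst p T.a w = r default by
      simp only [r, g, Scheme.Hom.comp_apply, geomPt_default]]
    refine (mem_same_iff F hq₁ hq₂ _ _ r).2 ?_
    have hX : r ≫ q = l ≫ pullback.fst f α := by
      rw [hl₁]; simp only [q, Category.assoc]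
    have h1 := (P i).spec _ l (r ≫ ai) (by rw [Category.assoc, hq₁, hX]) (by
      rw [Category.assoc, hi, ← Category.assoc r, hlT, Category.assoc, toStage_map f (m i) (hm i)])
    have h2 := (P j).spec _ l (r ≫ bj) (by rw [Category.assoc, hq₂, hX]) (by
      rw [Category.assoc, hj, ← Category.assoc r, hlT, Category.assoc, toStage_map f (m j) (hm j)])
    exact (val_congr' F hX.symm rfl rfl).1 (h1.val_eq h2))
  refine ⟨O, hO, fun K _ _ c a b ξ ha hb ea eb hc => ?_⟩
  let r : Spec (CommRingCat.of K) ⟶ R := pullback.lift (pullback.lift a c ea) (pullback.lift b c eb)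
    ((pullback.lift_snd _ _ _).trans (pullback.lift_snd _ _ _).symm)
  have hr : r ≫ pullback.fst si sj ≫ si = c := by
    rw [← Category.assoc]
    exact (congrArg (· ≫ si) (pullback.lift_fst _ _ _)).trans (pullback.lift_snd _ _ _)
  have hmem : r default ∈ S := by
    by_contra hne
    refine hOS _ hne ?_
    show p (r default) ∈ O
    rw [← Scheme.Hom.comp_apply, show r ≫ p = c ≫ bcFst f T.V from ((Category.assoc _ _ _).symm.trans
      (by rw [← hr]; simp only [p, Category.assoc])), Scheme.Hom.comp_apply]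
    exact hc
  have := (mem_same_iff F hq₁ hq₂ _ _ r).1 hmem
  have ea' : r ≫ ai = a := by
    rw [← Category.assoc]
    exact (congrArg (· ≫ _) (pullback.lift_fst _ _ _)).trans (pullback.lift_fst _ _ _)
  have eb' : r ≫ bj = b := by
    rw [← Category.assoc]
    exact (congrArg (· ≫ _) (pullback.lift_snd _ _ _)).trans (pullback.lift_fst _ _ _)
  refine (val_congr' F ?_ ea' eb').1 this
  rw [← hq₁, ← Category.assoc, ea', ha]

set_option maxHeartbeats 1000000 in
/-- Sections over the local algebra come from a stage. -/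
theorem exists_stage_section (hL : HasLifts α) (T₀ : Stage α)
    (τ : ((EtDesc.pullSh (pullback.fst f α)).obj F).obj.obj (op (EtCoh.top (pullback f α)))) :
    ∃ (T : Stage α) (t : F.obj.obj (op ((EtCoh.bc f).obj T.V))),
      ∀ (K : Type u) [Field K] [IsSepClosed K] (l : Spec (CommRingCat.of K) ⟶ pullback f α),
        At (pullback.fst f α) F τ l l (Category.comp_id l) (l ≫ toStage f T)
          (by rw [Category.assoc, toStage_hom]) t := by
  classical
  choose P hP using exists_piece f F hL T₀ τ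
  let I : ↥(pullback f α : Scheme.{u}) → Set ↥(pullback f α : Scheme.{u}) :=
    fun x => toStage f (P x).T ⁻¹' Set.range (P x).h.left
  have hI : ∀ x, IsOpen (I x) := fun x => by
    haveI : AlgebraicGeometry.Etale (P x).N.hom := (P x).N.prop
    haveI : AlgebraicGeometry.Etale ((EtCoh.bc f).obj (P x).T.V).hom := ((EtCoh.bc f).obj (P x).T.V).prop
    haveI : AlgebraicGeometry.Etale ((P x).h.left ≫ ((EtCoh.bc f).obj (P x).T.V).hom) := by
      rw [MorphismProperty.Over.w]; exact (P x).N.prop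
    haveI : AlgebraicGeometry.Etale (P x).h.left := AlgebraicGeometry.Etale.of_comp _ ((EtCoh.bc f).obj (P x).T.V).hom
    exact (P x).h.left.isOpenMap.isOpen_range.preimage (toStage f (P x).T).continuous
  haveI : CompactSpace (pullback f α : Scheme.{u}) := QuasiCompact.compactSpace_of_compactSpace (pullback.snd f α)
  obtain ⟨S, hS⟩ := isCompact_univ.elim_finite_subcover I hI fun x _ => Set.mem_iUnion.2 ⟨x, hP x⟩
  obtain ⟨T, -, m', hm'⟩ := exists_dominate_finset T₀ S fun x => (P x).T
  let Q : {x // x ∈ S} → Piece f F τ := fun k => P k.1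
  let m : ∀ k, T.V ⟶ (Q k).T.V := fun k => m' k.1 k.2
  have hm : ∀ k, T.a ≫ (m k).left = (Q k).T.a := fun k => hm' k.1 k.2
  let p := bcFst f T.V
  haveI := quasiCompact_bcFst f T.V
  let C : Set ((EtCoh.bc f).obj T.V).left := (⋃ k, ((EtCoh.bc f).map (m k)).left ⁻¹' Set.range (Q k).h.left)ᶜ
  have hC : IsClosed C := (isOpen_iUnion fun k => by
    haveI : AlgebraicGeometry.Etale ((Q k).h.left ≫ ((EtCoh.bc f).obj (Q k).T.V).hom) := by
      rw [MorphismProperty.Over.w]; exact (Q k).N.prop
    haveI : AlgebraicGeometry.Etale ((EtCoh.bc f).obj (Q k).T.V).hom := ((EtCoh.bc f).obj (Q k).T.V).prop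
    haveI : AlgebraicGeometry.Etale (Q k).h.left := AlgebraicGeometry.Etale.of_comp _ ((EtCoh.bc f).obj (Q k).T.V).hom
    exact (Q k).h.left.isOpenMap.isOpen_range.preimage ((EtCoh.bc f).map (m k)).left.continuous).isClosed_compl
  obtain ⟨O₁, hO₁, hcov⟩ := exists_open_disjoint T p hC (by
    intro w hw
    apply hw
    obtain ⟨z, -, hz⟩ := exists_lift_toStage f T (pullback.fst p T.a) (pullback.snd p T.a) pullback.condition
    obtain ⟨x, hx⟩ := Set.mem_iUnion.1 (hS (Set.mem_univ (z w)))
    obtain ⟨hxS, hx'⟩ := Set.mem_iUnion.1 hx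
    refine Set.mem_iUnion.2 ⟨⟨x, hxS⟩, ?_⟩
    show ((EtCoh.bc f).map (m ⟨x, hxS⟩)).left (pullback.fst p T.a w) ∈ Set.range (Q ⟨x, hxS⟩).h.left
    rw [← hz, Scheme.Hom.comp_apply, ← Scheme.Hom.comp_apply (toStage f T), toStage_map f (m ⟨x, hxS⟩) (hm _)]
    exact hx')
  choose O₂ hO₂ hcompat using fun ij : {x // x ∈ S} × {x // x ∈ S} => exists_open_compat f F T τ Q m hm ij.1 ij.2
  let O : T.V.left.Opens := O₁ ⊓ Finset.univ.inf O₂
  have hle : ∀ ij, O ≤ O₂ ij := fun ij => inf_le_right.trans (Finset.inf_le (Finset.mem_univ ij))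
  have hpt : T.pt ∈ O := ⟨hO₁, by
    show T.pt ∈ ((Finset.univ.inf O₂ : T.V.left.Opens) : Set T.V.left)
    rw [TopologicalSpace.Opens.coe_finset_inf, Finset.inf_set_eq_iInter]
    exact Set.mem_iInter₂.2 fun ij _ => hO₂ ij⟩
  let a' : Spec (CommRingCat.of A) ⟶ O.toScheme := IsOpenImmersion.lift O.ι T.a (range_subset_of_closedPoint T.a O hpt)
  have ha' : a' ≫ O.ι = T.a := IsOpenImmersion.lift_fac _ _ _
  obtain ⟨T', n, hn⟩ := exists_affine_stage (α := α) (EtSite.sub T.V O) a' (by
    show a' ≫ O.ι ≫ T.V.hom = α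
    rw [← Category.assoc, ha', T.w])
  let n₀ : T'.V ⟶ T.V := n ≫ EtSite.subHom T.V O
  have hn₀ : T'.a ≫ n₀.left = T.a := (Category.assoc _ _ _).symm.trans ((congrArg (· ≫ O.ι) hn).trans ha')
  have hmemO : ∀ z : ((EtCoh.bc f).obj T'.V).left, bcFst f T.V (((EtCoh.bc f).map n₀).left z) ∈ O := fun z => by
    rw [show bcFst f T.V (((EtCoh.bc f).map n₀).left z) = n₀.left (bcFst f T'.V z) from
      (Scheme.Hom.comp_apply _ _ _).symm.trans ((congrArg (fun t => t z)
        (EtCoh.isPullback_bc_map f n₀).w).trans (Scheme.Hom.comp_apply _ _ _))]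
    show (n.left ≫ O.ι) (bcFst f T'.V z) ∈ O
    rw [Scheme.Hom.comp_apply]
    exact (n.left (bcFst f T'.V z)).2
  let b : ∀ k, (EtCoh.bc f).obj T'.V ⟶ (EtCoh.bc f).obj (Q k).T.V :=
    fun k => (EtCoh.bc f).map n₀ ≫ (EtCoh.bc f).map (m k)
  obtain ⟨t, ht⟩ := exists_glue F (U := (EtCoh.bc f).obj T'.V) (fun k => fibProd (Q k).h (b k))
    (fun k => fibProdSnd (Q k).h (b k)) (fun k => F.obj.map (fibProdFst (Q k).h (b k)).op (Q k).sec) (by
      intro z
      have hz : ((EtCoh.bc f).map n₀).left z ∉ C := fun hc => hcov _ hc (hmemO z).1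
      obtain ⟨k, y, hy⟩ := Set.mem_iUnion.1 (not_not.1 hz)
      obtain ⟨y', -, hy'⟩ := Scheme.Pullback.exists_preimage_pullback (f := (Q k).h.left) (g := (b k).left) y z
        (hy.trans (Scheme.Hom.comp_apply ((EtCoh.bc f).map n₀).left ((EtCoh.bc f).map (m k)).left z).symm)
      exact ⟨k, y', hy'⟩) (by
      intro k l K _ _ ζ a c e ha hc
      let a₁ : Spec (CommRingCat.of K) ⟶ (Q k).N.left := a ≫ (fibProdFst (Q k).h (b k)).left
      let c₁ : Spec (CommRingCat.of K) ⟶ (Q l).N.left := c ≫ (fibProdFst (Q l).h (b l)).left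
      have ha₁ : a₁ ≫ (Q k).N.hom = ζ := by rw [Category.assoc, MorphismProperty.Over.w, ha]
      have hc₁ : c₁ ≫ (Q l).N.hom = ζ := by rw [Category.assoc, MorphismProperty.Over.w, hc]
      rw [val_map F ζ _ a ha a₁ ha₁ rfl, val_map F ζ _ c hc c₁ hc₁ rfl]
      let d := a ≫ (fibProdSnd (Q k).h (b k)).left ≫ ((EtCoh.bc f).map n₀).left
      refine hcompat (k, l) K d a₁ c₁ ζ ha₁ hc₁ ?_ ?_ (hle (k, l) ?_)
      · simp only [a₁, d, Category.assoc]
        exact congrArg (a ≫ ·) pullback.condition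
      · refine (Category.assoc _ _ _).trans ((congrArg (c ≫ ·) pullback.condition).trans ?_)
        refine (Category.assoc _ _ _).symm.trans ((congrArg (· ≫ (b l).left) e.symm).trans ?_)
        simp only [d, Category.assoc]
        rfl
      · simp only [d, Scheme.Hom.comp_apply]
        exact hmemO _)
  refine ⟨T', t, fun K _ _ l => ?_⟩
  obtain ⟨x, hx⟩ := Set.mem_iUnion.1 (hS (Set.mem_univ (l default)))
  obtain ⟨hxS, hx'⟩ := Set.mem_iUnion.1 hx
  let k : {x // x ∈ S} := ⟨x, hxS⟩
  have hb : T'.a ≫ (n₀ ≫ m k).left = (Q k).T.a := (Category.assoc _ _ _).symm.trans ((congrArg (· ≫ (m k).left) hn₀).trans (hm k))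
  let c : Spec (CommRingCat.of K) ⟶ ((EtCoh.bc f).obj (Q k).T.V).left := l ≫ toStage f (Q k).T
  obtain ⟨y, hy⟩ := hx'
  obtain ⟨φ, -⟩ := Scheme.pointSmallEtaleFiberObjToPreimage_surjective c (s₀ := c default) rfl
    (haveI : AlgebraicGeometry.Etale ((Q k).h.left ≫ ((EtCoh.bc f).obj (Q k).T.V).hom) := by
        rw [MorphismProperty.Over.w]; exact (Q k).N.prop
      haveI : AlgebraicGeometry.Etale ((EtCoh.bc f).obj (Q k).T.V).hom := ((EtCoh.bc f).obj (Q k).T.V).prop
      haveI : AlgebraicGeometry.Etale (Q k).h.left := AlgebraicGeometry.Etale.of_comp _ ((EtCoh.bc f).obj (Q k).T.V).hom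
      Scheme.Etale.mk (Q k).h.left) ⟨y, hy.trans (Scheme.Hom.comp_apply _ _ _).symm⟩
  let a : Spec (CommRingCat.of K) ⟶ (Q k).N.left := φ.left
  have hac : a ≫ (Q k).h.left = c := Over.w φ
  have haX : a ≫ (Q k).N.hom = l ≫ pullback.fst f α := by
    rw [← MorphismProperty.Over.w (Q k).h, ← Category.assoc, hac, Category.assoc, toStage_hom]
  have hat := (Q k).spec K l a haX hac
  let a₂ : Spec (CommRingCat.of K) ⟶ (fibProd (Q k).h (b k)).left := pullback.lift a (l ≫ toStage f T') (by
    rw [hac, Category.assoc]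
    show l ≫ toStage f (Q k).T = l ≫ toStage f T' ≫ (b k).left
    rw [show (b k).left = ((EtCoh.bc f).map (n₀ ≫ m k)).left by rw [Functor.map_comp], toStage_map f (n₀ ≫ m k) hb])
  have ha₂ : a₂ ≫ (fibProd (Q k).h (b k)).hom = l ≫ pullback.fst f α := by
    refine (Category.assoc _ _ _).symm.trans ((congrArg (· ≫ ((EtCoh.bc f).obj T'.V).hom) (pullback.lift_snd _ _ _)).trans ?_)
    exact (Category.assoc _ _ _).trans (congrArg (l ≫ ·) (toStage_hom f T'))
  refine hat.congr ?_
  rw [← val_map F _ (fibProdSnd (Q k).h (b k)) a₂ ha₂ (l ≫ toStage f T') _ (pullback.lift_snd _ _ _) t, ht k]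
  exact (val_map F _ (fibProdFst (Q k).h (b k)) a₂ ha₂ a haX (pullback.lift_fst _ _ _) (Q k).sec).symm

end Section

section Germ

open Groth.Agent.ShFlat24 (stageFib closedPt_default)

variable {Y : Scheme.{u}} {A : Type u} [CommRing A] [HenselianLocalRing A] [IsSepClosed (IsLocalRing.ResidueField A)]
  {α : Spec (CommRingCat.of A) ⟶ Y} {Ω : Type u} [Field Ω] [IsSepClosed Ω]
  (ζ : Spec (CommRingCat.of Ω) ⟶ Spec (CommRingCat.of (IsLocalRing.ResidueField A)))

variable {X : Scheme.{u}} (f : X ⟶ Y) [QuasiCompact f] [QuasiSeparated f] [Flat α] (F : EtDesc.Sh X)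

/-- Germs of direct images are determined over the strict henselization. -/
theorem germ_eq_of_agree {η : Spec (CommRingCat.of Ω) ⟶ Y} (hη : ζ ≫ EtStalk.closedPt A ≫ α = η) (T : Stage α)
    (t t' : F.obj.obj (op ((EtCoh.bc f).obj T.V)))
    (h : ∀ w : (pullback f α : Scheme.{u}), toStage f T w ∈ agree F t t') :
    Sets.germ η ((EtDesc.pushSh f).obj F) (stageFib ζ hη T) t = Sets.germ η ((EtDesc.pushSh f).obj F) (stageFib ζ hη T) t' := by
  let p := bcFst f T.V
  haveI := quasiCompact_bcFst f T.V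
  obtain ⟨O, hO, hdis⟩ := exists_open_disjoint T p (C := (agree F t t')ᶜ) (isOpen_agree F t t').isClosed_compl (by
    intro w hw
    obtain ⟨z, -, hz⟩ := exists_lift_toStage f T (pullback.fst p T.a) (pullback.snd p T.a) pullback.condition
    apply hw
    rw [← hz, Scheme.Hom.comp_apply]
    exact h _)
  let vl : Spec (CommRingCat.of Ω) ⟶ T.V.left := ζ ≫ EtStalk.closedPt A ≫ T.a
  let v₀ : Spec (CommRingCat.of Ω) ⟶ O.toScheme := IsOpenImmersion.lift O.ι vl (by
    rw [Scheme.Opens.range_ι]
    rintro _ ⟨z, rfl⟩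
    rw [Scheme.Hom.comp_apply, Scheme.Hom.comp_apply, closedPt_default]
    exact hO)
  have hv₀ : v₀ ≫ O.ι = vl := IsOpenImmersion.lift_fac _ _ _
  refine (Sets.germ_eq_iff η ((EtDesc.pushSh f).obj F) _ t t').2 ⟨EtSite.sub T.V O, EtSite.subHom T.V O,
    Over.homMk v₀ (by
      show v₀ ≫ O.ι ≫ T.V.hom = η
      rw [← Category.assoc, hv₀]
      exact Over.w (stageFib ζ hη T)), Over.OverMorphism.ext hv₀, ?_⟩
  refine eq_of_agree F (U := (EtCoh.bc f).obj (EtSite.sub T.V O)) fun u => (mem_agree_map F _ _ _ u).2 ?_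
  by_contra hu
  refine hdis _ hu ?_
  show bcFst f T.V (((EtCoh.bc f).map (EtSite.subHom T.V O)).left u) ∈ O
  rw [show bcFst f T.V (((EtCoh.bc f).map (EtSite.subHom T.V O)).left u) = O.ι (bcFst f (EtSite.sub T.V O) u) from
    (Scheme.Hom.comp_apply _ _ _).symm.trans ((congrArg (fun t => t u)
      (EtCoh.isPullback_bc_map f (EtSite.subHom T.V O)).w).trans (Scheme.Hom.comp_apply _ _ _))]
  exact (bcFst f (EtSite.sub T.V O) u).2

end Germ

end Groth.Agent.SetsStage24
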